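import Cfsg.Agent.SOE.WB
import Cfsg.Agent.SEE.WX

/-!
# The wreathed configuration for orthogonal groups: the complement `P`
-/

set_option autoImplicit false
set_option linter.unusedSectionVars false
set_option linter.unusedVariables false

namespace Cfsg.Lib.SOE.Wo

open Subgroup Cfsg.Lib.Trans Cfsg.Lib.Gold
open Cfsg.Lib.SG2 (Top Uq)
open Cfsg.Lib.SEE.Wr (UM SPL)
open scoped commutatorElement

variable {G Θ C : Type*} [Group G] [Finite G] [CommGroup Θ] [Finite Θ] [CommGroup C] [Finite C]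
  {ν : Nm} {A B U V D E X P W T : Subgroup G} {θ η : G → Θ} {t g g' p s v φ ψ : G} {q r e : ℕ}

open Cfsg.Lib.SF4.Wr (cj_cj_t tt_conj card_le_left)

open Cfsg.Lib.SEE.Wr.WP (two_mul_le)

namespace PP

theorem sq_one (h : Fa ν A U D θ q) (hn : p ∈ Ns A) (p2 : p * p = 1) : θ p * θ p = 1 := by
  rw [← h.mul p hn p hn, p2, h.one]

theorem ord2 {θ : G → ℤˣ × C} (h : Fa ν A U D θ q) (hn : p ∈ Ns A) (p2 : p * p = 1) (h1 : (θ p).2 ≠ 1) :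
    orderOf (θ p).2 = 2 :=
  SEE.Wr.WX.ord_two h1 (congrArg Prod.snd (sq_one h hn p2))

theorem ord2' {θ : G → ℤˣ × C} (h : Fa ν A U D θ q) (hn : p ∈ Ns A) (p2 : p * p = 1) (h1 : (θ p).2 ≠ 1) :
    orderOf (θ p) = 2 := h.ord hn (ord2 h hn p2 h1) (by rw [sq, p2])

theorem fc2 {θ : G → ℤˣ × C} (h : Fa ν A U D θ q) (x : Xp ν A U D θ q) (hp : p ∈ D) (p2 : p * p = 1) (h1 : (θ p).2 ≠ 1) :
    Nat.card (U ⊓ C1 p : Subgroup G) ^ 2 = q ^ ν.N := by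
  have := x.fc p hp ((ord2' h (h.DA hp) p2 h1).trans (ord2 h (h.DA hp) p2 h1).symm)
  rwa [ord2' h (h.DA hp) p2 h1] at this

variable (h : WR ν A B U V D E θ η q t X P)
include h

theorem DE_NU : D ⊓ E ≤ Ns (U ⊔ V) := fun _ hp => mem_Ns_sup (h.fa.DU hp.1) (h.fb.DU hp.2)

theorem t_NU : t ∈ Ns (U ⊔ V) := by rw [mem_Ns_iff, cj_sup, h.tU, h.tV, sup_comm]

theorem fix_sup {m : G} (hA : m ∈ Ns A) (hB : m ∈ Ns B) :
    (U ⊔ V) ⊓ C1 m = (U ⊓ C1 m) ⊔ (V ⊓ C1 m) := by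
  refine le_antisymm ?_ (sup_le (inf_le_inf_right _ le_sup_left) (inf_le_inf_right _ le_sup_right))
  rintro g ⟨h1, h2⟩
  obtain ⟨c, hc, d, hd, rfl⟩ := h.decU h1
  have := h.comp_comm (h.fa.syl.le hc) (h.fb.syl.le hd) (.of_mem h.fa.up.two hc) hA hB
    (mem_C1.1 h2).symm
  exact mul_mem (mem_sup_left ⟨hc, mem_C1.2 this.1.symm⟩) (mem_sup_right ⟨hd, mem_C1.2 this.2.symm⟩)

theorem sw_inf (hs : s ∈ Ns (A ⊔ B)) (hn : s ∉ Ns A) : V ⊓ C1 s = ⊥ := eq_bot_iff.2 fun d hd =>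
  h.tw_eq (by
    have := (h.swp hs hn).2.le (conj_mem_cj.2 (h.fb.syl.le hd.1))
    rwa [← mem_C1.1 hd.2, mul_inv_cancel_right] at this) (h.fb.syl.le hd.1)
    (.of_mem h.fb.up.two hd.1)

end PP

open PP

namespace WR

variable (h : WR ν A B U V D E θ η q t X P)
include h

theorem P_M : P ≤ Ns (A ⊔ B) := le_sup_right.trans h.syl.le

theorem S_M : U ⊔ V ⊔ P ≤ Ns (A ⊔ B) := h.syl.le

theorem P_NU : P ≤ Ns (U ⊔ V) := fun p hp =>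
  (h.pure p hp).elim (fun e => DE_NU h e) fun e => (mul_mem_cancel_right (t_NU h)).1 (DE_NU h e)

theorem P_nsw (hp : p ∈ P) (hn : p ∈ Ns A) : p ∈ D ⊓ E :=
  (h.pure p hp).resolve_right fun e => h.tN ((mul_mem_cancel_left hn).1 (h.fa.DA e.1))

theorem P_inj (hp : p ∈ P) (hn : p ∈ Ns A) (h1 : θ p = 1) (h2 : η p = 1) : p = 1 :=
  h.tw_Cs ((h.fa.ker p (h.P_nsw hp hn).1).1 h1) ((h.fb.ker p (h.P_nsw hp hn).2).1 h2)
    (.of_mem h.two hp)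

theorem P_ext (hp : p ∈ P) (hn : p ∈ Ns A) (hs : s ∈ P) (hn' : s ∈ Ns A) (h1 : θ p = θ s)
    (h2 : η p = η s) : p = s := by
  have h3 := h.NB (h.P_M hp) hn
  have h4 := h.NB (h.P_M hs) hn'
  exact mul_inv_eq_one.1 (h.P_inj (mul_mem hp (inv_mem hs)) (mul_mem hn (inv_mem hn'))
    (by rw [h.fa.mul _ hn _ (inv_mem hn'), h.fa.inv hn', h1, mul_inv_cancel])
    (by rw [h.fb.mul _ h3 _ (inv_mem h4), h.fb.inv h4, h2, mul_inv_cancel]))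

theorem P_comm (hp : p ∈ P) (hn : p ∈ Ns A) (hs : s ∈ P) (hn' : s ∈ Ns A) : Commute p s := by
  have h3 := h.NB (h.P_M hp) hn
  have h4 := h.NB (h.P_M hs) hn'
  exact h.P_ext (mul_mem hp hs) (mul_mem hn hn') (mul_mem hs hp) (mul_mem hn' hn)
    (by rw [h.fa.mul _ hn _ hn', h.fa.mul _ hn' _ hn, mul_comm])
    (by rw [h.fb.mul _ h3 _ h4, h.fb.mul _ h4 _ h3, mul_comm])

theorem P_diag (hp : p ∈ P) (hn : p ∈ Ns A) : Commute t p ↔ η p = θ p := by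
  have h3 := h.NB (h.P_M hp) hn
  refine ⟨fun e => ?_, fun e => mul_inv_eq_iff_eq_mul.1 (h.P_ext
    (mul_mem (mul_mem h.mem hp) (inv_mem h.mem)) (h.tNB.2 h3) hp hn ((h.tη h3).trans e)
    ((h.tθ p hn).trans e.symm))⟩
  rw [← h.tθ p hn, e.eq, mul_inv_cancel_right]

theorem P_cent (hp : p ∈ P) (hn : p ∈ Ns A) (hc : Commute t p) : P ≤ C1 p := fun s hs => by
  by_cases h7 : s ∈ Ns A
  · exact mem_C1.2 (h.P_comm hs h7 hp hn)
  · have := (h.P_comm (mul_mem hs h.mem) (h.idx s (h.P_M hs) t h.tM h7 h.tN) hp hn).mul_left hc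
    rw [mul_assoc, h.t2, mul_one] at this
    exact mem_C1.2 this

theorem P_inf : (A ⊔ B) ⊓ P = ⊥ :=
  eq_bot_iff.2 fun g hg => mem_bot.2 (h.P_inj hg.2 (h.GA hg.1) (h.θG hg.1) (h.ηG hg.1))

theorem card_half : Nat.card P ≤ 2 * Nat.card (P ⊓ Ns A : Subgroup G) := by
  have h1 := SG2.card_le_cover (D := P) (B := Ns A) {1, t} fun d hd => by
    by_cases e : d ∈ Ns A
    · exact ⟨1, by simp, by simpa using e⟩
    · exact ⟨t, by simp, h.idx _ (inv_mem h.tM) _ (h.P_M hd) (fun k => h.tN (inv_mem_iff.1 k)) e⟩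
  have h2 : Nat.card ({1, t} : Set G) ≤ 2 := by
    rw [Nat.card_coe_set_eq]; exact (Set.ncard_insert_le _ _).trans (by simp)
  exact h1.trans (Nat.mul_le_mul_right _ h2)

theorem card_base : Nat.card (P ⊓ Ns A : Subgroup G) ≤ Nat.card Θ ^ 2 := by
  have h3 := Nat.card_le_card_of_injective (fun p : ↥(P ⊓ Ns A) => (θ p, η p)) fun p s e =>
    Subtype.ext (h.P_ext p.2.1 p.2.2 s.2.1 s.2.2 (congrArg Prod.fst e) (congrArg Prod.snd e))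
  rwa [Nat.card_prod, ← sq] at h3

theorem card_P : Nat.card P < q ^ ν.m :=
  (h.card_half.trans (Nat.mul_le_mul_left _ h.card_base)).trans_lt h.fa.bd

theorem card_cP (hp : p ∈ P) (hn : p ∈ Ns A) (hs : s ∈ P) (hn' : s ∉ Ns A) :
    Nat.card (P ⊓ C1 s : Subgroup G) ≤ Nat.card (P ⊓ C1 p : Subgroup G) := by
  by_cases hc : Commute t p
  · exact Subgroup.card_le_of_le (le_inf inf_le_left (inf_le_left.trans (h.P_cent hp hn hc)))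
  have h1 := two_mul_le (inf_le_left : P ⊓ C1 s ≤ P) fun e => hc (by
    have e1 : Commute s p := (mem_C1.1 (e.ge hp).2).symm
    have := e1.inv_left.mul_left
      (h.P_comm (mul_mem hs h.mem) (h.idx s (h.P_M hs) t h.tM hn' h.tN) hp hn)
    rwa [inv_mul_cancel_left] at this)
  have h2 : Nat.card (P ⊓ Ns A : Subgroup G) ≤ Nat.card (P ⊓ C1 p : Subgroup G) :=
    Subgroup.card_le_of_le fun g hg => ⟨hg.1, mem_C1.2 (h.P_comm hg.1 hg.2 hp hn)⟩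
  have := h.card_half
  omega

theorem decomp (hg : g ∈ U ⊔ V ⊔ P) : ∃ c ∈ U, ∃ d ∈ V, ∃ p ∈ P, g = c * d * p := by
  obtain ⟨u, hu, p, hp, rfl⟩ := (Solv.Coprime.mem_sup_iff h.P_NU).1 hg
  obtain ⟨c, hc, d, hd, rfl⟩ := h.decU hu
  exact ⟨c, hc, d, hd, p, hp, rfl⟩

theorem part {u : G} (hu : u ∈ A ⊔ B) (hp : p ∈ P) :
    (u * p ∈ Ns A ↔ p ∈ Ns A) ∧ (p ∈ Ns A → θ (u * p) = θ p ∧ η (u * p) = η p) ∧
      (∀ n : ℕ, (u * p) ^ n = 1 → p ^ n = 1) ∧ (u * p ∈ X ↔ p ∈ X) ∧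
      θ (u * p * (u * p)) = θ (p * p) := by
  refine ⟨mul_mem_cancel_left (h.GA hu), fun hn => ⟨?_, ?_⟩, fun n e => ?_,
    mul_mem_cancel_left (h.le hu), ?_⟩
  · rw [h.fa.mul _ (h.GA hu) _ hn, h.θG hu, one_mul]
  · rw [h.fb.mul _ (h.GB hu) _ (h.NB (h.P_M hp) hn), h.ηG hu, one_mul]
  · have := SG2.mul_pow_mem hu (h.P_M hp) n
    rw [e, one_mul, inv_mem_iff] at this
    exact mem_bot.1 (h.P_inf.le ⟨this, pow_mem hp n⟩)
  · have h1 := mul_mem hu (mem_normalizer_conj (h.P_M hp) hu)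
    rw [show u * p * (u * p) = u * (p * u * p⁻¹) * (p * p) by group, h.fa.mul _ (h.GA h1) _
      (Comp.sq_mem_of_idx h.idx (h.P_M hp)), h.θG h1, one_mul]

theorem part_comm {u u' : G} (hu : u ∈ A ⊔ B) (hp : p ∈ P) (hu' : u' ∈ A ⊔ B) (hs : s ∈ P)
    (e : Commute (u * p) (u' * s)) : Commute p s := by
  refine mul_inv_eq_one.1 (mem_bot.1 (h.P_inf.le (mem_inf.2 ⟨?_, P.mul_mem (P.mul_mem hp hs)
    (P.inv_mem (P.mul_mem hs hp))⟩)))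
  rw [show p * s * (s * p)⁻¹ = (u * (p * u' * p⁻¹))⁻¹ * (u * p * (u' * s)) * (s * p)⁻¹ by group,
    e.eq, show (u * (p * u' * p⁻¹))⁻¹ * (u' * s * (u * p)) * (s * p)⁻¹ =
      (u * (p * u' * p⁻¹))⁻¹ * (u' * (s * u * s⁻¹)) by group]
  exact mul_mem (inv_mem (mul_mem hu (mem_normalizer_conj (h.P_M hp) hu')))
    (mul_mem hu' (mem_normalizer_conj (h.P_M hs) hu))

theorem mem_U (hg : g ∈ U ⊔ V ⊔ P) (hn : g ∈ Ns A) (h1 : θ g = 1) (h2 : η g = 1) :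
    g ∈ U ⊔ V := by
  obtain ⟨u, hu, p, hp, rfl⟩ := (Solv.Coprime.mem_sup_iff h.P_NU).1 hg
  obtain ⟨h3, h4, -⟩ := h.part (h.UG hu) hp
  obtain ⟨h5, h6⟩ := h4 (h3.1 hn)
  rwa [h.P_inj hp (h3.1 hn) (h5.symm.trans h1) (h6.symm.trans h2), mul_one]

theorem cover {u : G} (hu : u ∈ A ⊔ B) (hp : p ∈ P) (hT : T ≤ (U ⊔ V ⊔ P) ⊓ C1 (u * p)) :
    Nat.card T ≤ Nat.card (P ⊓ C1 p : Subgroup G) * Nat.card (T ⊓ (U ⊔ V) : Subgroup G) :=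
  SG2.card_le_cover (D := T) (B := U ⊔ V) (P ⊓ C1 p : Subgroup G) fun d hd => by
    obtain ⟨w, hw, ω, hω, rfl⟩ := (Solv.Coprime.mem_sup_iff h.P_NU).1 (hT hd).1
    exact ⟨ω, ⟨hω, mem_C1.2 (h.part_comm (h.UG hw) hω hu hp (mem_C1.1 (hT hd).2))⟩, by
      simpa [mul_assoc] using mem_normalizer_conj (inv_mem (h.P_NU hω)) hw⟩

theorem sw_bound (hs : s ∈ Ns (A ⊔ B)) (hn : s ∉ Ns A) (s2 : s * s = 1) (h2 : IsPGroup 2 T)
    (hT : T ≤ Ns (A ⊔ B) ⊓ C1 s) :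
    ∃ p ∈ P, p ∉ Ns A ∧ Nat.card T ≤ q ^ ν.N * Nat.card (P ⊓ C1 p : Subgroup G) := by
  have := Fact.mk Nat.prime_two
  obtain ⟨m, hm, h1⟩ := h.syl.exists_cj_le (Comp.isPGroup_sup h2 (Comp.Tw.of_sq s2).isPGroup
    (zpowers_le.2 (Cs_le_Ns (mem_Cs.2 fun g hg => mem_C1.1 (hT hg).2))))
    (sup_le (hT.trans inf_le_left) (zpowers_le.2 hs))
  have h3 : cj m T ≤ C1 (m * s * m⁻¹) := cj_C1 m s ▸ cj_mono m (hT.trans inf_le_right)
  have h4 := mul_mem (mul_mem hm hs) (inv_mem hm)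
  have h4' := mt (h.conj_iff hm hs).1 hn
  have h5 := h1 (conj_mem_cj.2 (mem_sup_right (mem_zpowers s)))
  replace h1 := (cj_mono m le_sup_left).trans h1
  rw [← card_cj m T]
  generalize cj m T = T at h1 h3
  generalize m * s * m⁻¹ = s at h3 h4 h4' h5
  obtain ⟨u, hu, p, hp, rfl⟩ := (Solv.Coprime.mem_sup_iff h.P_NU).1 h5
  refine ⟨p, hp, mt (h.part (h.UG hu) hp).1.2 h4', (h.cover (h.UG hu) hp (le_inf h1 h3)).trans ?_⟩
  rw [mul_comm, ← h.fa.up.card]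
  exact Nat.mul_le_mul_right _ (card_le_left h.UV inf_le_right (eq_bot_iff.2
    ((le_inf inf_le_right (inf_le_left.trans (inf_le_left.trans h3))).trans (sw_inf h h4 h4').le)))

theorem sw_small (hp : p ∈ P) (hn : p ∈ Ns A) (hv : v ∈ U ⊔ V ⊔ P) (hs : v ∉ Ns A)
    (hT : T ≤ (U ⊔ V ⊔ P) ⊓ C1 p ⊓ C1 v) :
    Nat.card T ≤ Nat.card P * Nat.card (U ⊓ C1 p : Subgroup G) := by
  have h1 := h.cover (T := T) (one_mem _) hp (by rw [one_mul]; exact hT.trans inf_le_left)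
  refine h1.trans (Nat.mul_le_mul (Subgroup.card_le_of_le inf_le_left) (card_le_left
    (L := V ⊓ C1 p) (inf_le_left.trans (h.UV.trans (Cs_anti inf_le_left))) ?_ (eq_bot_iff.2
      ((le_inf (inf_le_right.trans inf_le_left) (inf_le_left.trans (inf_le_left.trans
        (hT.trans inf_le_right)))).trans (sw_inf h (h.S_M hv) hs).le))))
  rw [← fix_sup h hn (h.NB (h.P_M hp) hn)]
  exact le_inf inf_le_right (inf_le_left.trans (hT.trans (inf_le_left.trans inf_le_right)))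

theorem c_inf' (hp : p ∈ P) :
    (U ⊔ V ⊔ P) ⊓ C1 p = (U ⊔ V) ⊓ C1 p ⊔ (P ⊓ C1 p) := by
  refine le_antisymm ?_ (sup_le (inf_le_inf_right _ le_sup_left) (inf_le_inf_right _ le_sup_right))
  rintro g ⟨h2, h3⟩
  obtain ⟨u, hu, ω, hω, rfl⟩ := (Solv.Coprime.mem_sup_iff h.P_NU).1 h2
  have h4 : ω ∈ C1 p := mem_C1.2 (h.part_comm (h.UG hu) hω (one_mem _) hp
    (by rw [one_mul]; exact mem_C1.1 h3))
  exact mul_mem (mem_sup_left ⟨hu, (mul_mem_cancel_right h4).1 h3⟩) (mem_sup_right ⟨hω, h4⟩)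

theorem c_inf (hp : p ∈ P) (hn : p ∈ Ns A) :
    (U ⊔ V ⊔ P) ⊓ C1 p = (U ⊓ C1 p) ⊔ (V ⊓ C1 p) ⊔ (P ⊓ C1 p) := by
  rw [h.c_inf' hp, fix_sup h hn (h.NB (h.P_M hp) hn)]

theorem c_card (hp : p ∈ P) (hn : p ∈ Ns A) :
    Nat.card ((U ⊔ V ⊔ P) ⊓ C1 p : Subgroup G) = Nat.card (U ⊓ C1 p : Subgroup G) *
      Nat.card (V ⊓ C1 p : Subgroup G) * Nat.card (P ⊓ C1 p : Subgroup G) := by
  rw [← h.card_sup (inf_le_left.trans h.fa.syl.le : U ⊓ C1 p ≤ A)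
    (inf_le_left.trans h.fb.syl.le : V ⊓ C1 p ≤ B) (h.fa.up.two.to_le inf_le_left),
    ← fix_sup h hn (h.NB (h.P_M hp) hn), h.c_inf' hp]
  exact Solv.Coprime.card_sup (le_Ns_inf (inf_le_left.trans h.P_NU) (le_Ns_C1 inf_le_right))
    (disjoint_iff.2 (eq_bot_iff.2 ((inf_le_inf (inf_le_left.trans h.UG) inf_le_left).trans
      h.P_inf.le)))

section

variable {θ η : G → ℤˣ × C}

omit h in
theorem ph_of (h : WR ν A B U V D E θ η q t X P) (hp : p ∈ P) (hn : p ∈ Ns A) (e : η p = θ p) (h2 : orderOf (θ p).2 = 2) :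
    Ph D E θ η P p := by
  have h3 := h.NB (h.P_M hp) hn
  have h4 : θ p * θ p = 1 := Prod.ext (Int.units_mul_self _) (by
    rw [Prod.snd_mul, ← sq, ← h2]; exact pow_orderOf_eq_one _)
  exact ⟨hp, h.P_nsw hp hn, h.P_inj (mul_mem hp hp) (mul_mem hn hn)
    (by rw [h.fa.mul _ hn _ hn, h4]) (by rw [h.fb.mul _ h3 _ h3, e, h4]), e,
    fun k => by rw [k, orderOf_one] at h2; omega⟩

omit h in
theorem ph_t (h : WR ν A B U V D E θ η q t X P) (hφ : Ph D E θ η P φ) : Commute t φ :=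
  (h.P_diag hφ.mem (h.fa.DA hφ.nsw.1)).2 hφ.eq

end

end WR

namespace Wp

variable {θ η : G → ℤˣ × C} (h : Wp ν A B U V D E θ η q t X P)
include h

theorem descent {c d : G} (hc : c ∈ U) (hd : d ∈ V) (hp : p ∈ P) (hn : p ∈ Ns A) {n : ℕ}
    (h1 : orderOf (θ p).2 = n) (h2 : orderOf (η p).2 = n) (e : (c * d * p) ^ n = 1) :
    ∃ j ∈ U ⊔ V, j * (c * d * p) * j⁻¹ = p := by
  have h3 := h.P_nsw hp hn
  have h4 := (h.part (h.UG (mul_mem (mem_sup_left hc) (mem_sup_right hd))) hp).2.2.1 n e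
  have o1 := h.fa.ord hn h1 h4
  have o2 := h.fb.ord (h.fb.DA h3.2) h2 h4
  obtain ⟨c', hc', d', hd', e1, e2, e3⟩ := SG2.pow_parts h.UV (h.fa.DU h3.1) (h.fb.DU h3.2) hc hd n
  rw [e, h4, mul_one] at e3
  obtain ⟨rfl, rfl⟩ := SG2.eq_one_of_mul h.infU hc' hd' e3.symm
  obtain ⟨j, hj, e4⟩ := h.xa.h1 p h3.1 (o1.trans h1.symm) c hc (by rw [o1, e1, one_mul])
  obtain ⟨k, hk, e5⟩ := h.xb.h1 p h3.2 (o2.trans h2.symm) d hd (by rw [o2, e2, one_mul])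
  refine ⟨k * j, mul_mem (mem_sup_right hk) (mem_sup_left hj), ?_⟩
  have e6 := mem_Cs.1 (h.UV (mul_mem hj hc)) d hd
  calc _ = k * (j * c * d * p * j⁻¹) * k⁻¹ := by group
    _ = k * (d * (j * (c * p) * j⁻¹)) * k⁻¹ := by rw [← e6]; group
    _ = p := by rw [e4, e5]

theorem fl_of (hv : v ∈ U ⊔ V ⊔ P) (v2 : v * v = 1) (hn : v ∈ Ns A) (h1 : (θ v).2 ≠ 1)
    (h2 : (η v).2 ≠ 1) : ∃ p ∈ P, p ∈ Ns A ∧ p * p = 1 ∧ θ p = θ v ∧ η p = η v ∧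
      ∃ j ∈ U ⊔ V, j * v * j⁻¹ = p := by
  obtain ⟨c, hc, d, hd, p, hp, rfl⟩ := h.decomp hv
  obtain ⟨h3, h4, h5, -⟩ := h.part (h.UG (mul_mem (mem_sup_left hc) (mem_sup_right hd))) hp
  have h6 := h3.1 hn
  have h7 := h.P_nsw hp h6
  rw [(h4 h6).1] at h1
  rw [(h4 h6).2] at h2
  have h8 := h5 2 (by rw [sq, v2])
  rw [sq] at h8
  exact ⟨p, hp, h6, h8, (h4 h6).1.symm, (h4 h6).2.symm, h.descent hc hd hp h6
    (ord2 h.fa h6 h8 h1) (ord2 h.fb (h.fb.DA h7.2) h8 h2) (by rw [sq, v2])⟩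

theorem fl_card (hp : p ∈ P) (hn : p ∈ Ns A) (p2 : p * p = 1) (h1 : (θ p).2 ≠ 1)
    (h2 : (η p).2 ≠ 1) : Nat.card (U ⊓ C1 p : Subgroup G) ^ 2 = q ^ ν.N ∧
      Nat.card (V ⊓ C1 p : Subgroup G) ^ 2 = q ^ ν.N ∧
      Nat.card ((U ⊔ V ⊔ P) ⊓ C1 p : Subgroup G) = q ^ ν.N * Nat.card (P ⊓ C1 p : Subgroup G) := by
  have h3 := fc2 h.fa h.xa (h.P_nsw hp hn).1 p2 h1
  have h4 := fc2 h.fb h.xb (h.P_nsw hp hn).2 p2 h2
  refine ⟨h3, h4, ?_⟩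
  rw [h.c_card hp hn, ← Nat.pow_left_injective two_ne_zero (h3.trans h4.symm), ← sq, h3]

end Wp

end Cfsg.Lib.SOE.Wo
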